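import Cfsg.Agent.OD.Pre
import Cfsg.Agent.H6.Top2
import Cfsg.Agent.H6.HiA.D0
set_option autoImplicit false
set_option maxRecDepth 100000
set_option Elab.async false
set_option linter.all false
namespace CfH6.HiA
open CfH6 MulAction
noncomputable def n0_0 : Net := mkNet (nat_lit 192) [(nat_lit 96, k0), (nat_lit 48, k1), (nat_lit 24, k2), (nat_lit 12, k3), (nat_lit 6, k4), (nat_lit 3, k5)] [(k6, nat_lit 1), (k7, nat_lit 1), (k8, nat_lit 1)]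
noncomputable def n0_1 : Net := mkNet (nat_lit 192) [(nat_lit 96, k9), (nat_lit 48, k10), (nat_lit 24, k11), (nat_lit 12, k12), (nat_lit 6, k13), (nat_lit 3, k14)] [(k15, nat_lit 1), (k16, nat_lit 1), (k17, nat_lit 1)]
noncomputable def n0_2 : Net := mkNet (nat_lit 192) [(nat_lit 96, k18), (nat_lit 48, k19), (nat_lit 24, k20), (nat_lit 12, k21), (nat_lit 6, k22), (nat_lit 3, k23)] [(k24, nat_lit 1), (k25, nat_lit 1), (k26, nat_lit 1)]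
noncomputable def n0_3 : Net := mkNet (nat_lit 192) [(nat_lit 96, k27), (nat_lit 48, k28), (nat_lit 24, k29), (nat_lit 12, k30), (nat_lit 6, k31), (nat_lit 3, k32)] [(k33, nat_lit 1), (k34, nat_lit 1), (k35, nat_lit 1)]
noncomputable def n0_4 : Net := mkNet (nat_lit 192) [(nat_lit 96, k36), (nat_lit 48, k37), (nat_lit 24, k38), (nat_lit 12, k39), (nat_lit 6, k40), (nat_lit 3, k41)] [(k42, nat_lit 1), (k43, nat_lit 1), (k44, nat_lit 1)]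
noncomputable def n0_5 : Net := mkNet (nat_lit 192) [(nat_lit 96, k45), (nat_lit 48, k46), (nat_lit 24, k47), (nat_lit 12, k48), (nat_lit 6, k49), (nat_lit 3, k50)] [(k51, nat_lit 1), (k52, nat_lit 1), (k53, nat_lit 1)]
noncomputable def n1_1 : Net := mkNet (nat_lit 192) [(nat_lit 96, k54), (nat_lit 48, k55), (nat_lit 24, k56), (nat_lit 12, k57), (nat_lit 6, k58), (nat_lit 3, k59)] [(k60, nat_lit 1), (k61, nat_lit 1), (k62, nat_lit 1)]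
noncomputable def n2_0 : Net := mkNet (nat_lit 16) [(nat_lit 8, (nat_lit 0xe6e2)), (nat_lit 4, (nat_lit 0x1c64)), (nat_lit 2, (nat_lit 0xe4e8))] [((nat_lit 0x4440), nat_lit 1)]
noncomputable def n2_1 : Net := mkNet (nat_lit 16) [(nat_lit 8, (nat_lit 0)), (nat_lit 4, (nat_lit 0xba04)), (nat_lit 2, (nat_lit 0x20e0))] [((nat_lit 0x1010), nat_lit 1)]
noncomputable def n3_0 : Net := mkNet (nat_lit 8) [(nat_lit 4, (nat_lit 0x80)), (nat_lit 2, (nat_lit 0x40))] [((nat_lit 0x50), nat_lit 1)]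
noncomputable def n3_1 : Net := mkNet (nat_lit 8) [(nat_lit 4, (nat_lit 0x80)), (nat_lit 2, (nat_lit 0xe0))] [((nat_lit 0x40), nat_lit 1)]
noncomputable def n4_0 : Net := mkNet (nat_lit 8) [(nat_lit 4, (nat_lit 0)), (nat_lit 2, (nat_lit 0xe0))] [((nat_lit 0x40), nat_lit 1)]
noncomputable def n4_1 : Net := mkNet (nat_lit 8) [(nat_lit 4, (nat_lit 0)), (nat_lit 2, (nat_lit 0x60))] [((nat_lit 0x40), nat_lit 1)]
noncomputable def n5_0 : Net := mkNet (nat_lit 8) [(nat_lit 4, (nat_lit 0)), (nat_lit 2, (nat_lit 0x80))] []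
noncomputable def n5_1 : Net := mkNet (nat_lit 8) [(nat_lit 4, (nat_lit 0)), (nat_lit 2, (nat_lit 0))] [((nat_lit 0x40), nat_lit 1)]
noncomputable def nets0 : List Net := [n0_0, n0_1, n0_2, n0_3, n0_4, n0_5]
noncomputable def nets1 : List Net := [n0_1, n1_1]
def ws1 : List (List ℕ) := [[1],
  [2, 3, 4, 5, 3, 1, 5]]
noncomputable def nets2 : List Net := [n2_0, n2_1]
def ws2 : List (List ℕ) := [[1, 1, 1, 0, 1, 0, 1, 1, 0, 1, 1],
  [1, 1, 0, 1, 1, 1, 1, 0, 1]]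
noncomputable def nets3 : List Net := [n3_0, n3_1]
def ws3 : List (List ℕ) := [[0, 1, 1, 1, 0, 1],
  [1, 1, 0, 0, 1]]
noncomputable def nets4 : List Net := [n4_0, n4_1]
def ws4 : List (List ℕ) := [[0, 0, 1, 1, 0, 0],
  [0, 0, 1, 0]]
noncomputable def nets5 : List Net := [n5_0, n5_1]
def ws5 : List (List ℕ) := [[0, 0, 1],
  [1, 0, 0]]
noncomputable def nets6 : List Net := [n5_1]
def ws6 : List (List ℕ) := [[1]]
def sig : List (List ℕ) := [[0],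
  [1],
  [2],
  [3],
  [4],
  [5]]
def eqs0 : List (List ℕ × List ℕ) := [([0, 0], []),
  ([1, 1], []),
  ([2, 2], []),
  ([3, 3], []),
  ([4, 4], []),
  ([5, 5], []),
  ([0, 1], [1, 0]),
  ([0, 2, 0], [2, 0, 2]),
  ([0, 3], [3, 0]),
  ([0, 4], [4, 0]),
  ([0, 5, 0], [5, 0, 5]),
  ([1, 2, 1], [2, 1, 2]),
  ([1, 3, 1, 3], [3, 1, 3, 1]),
  ([1, 4], [4, 1]),
  ([1, 5, 1], [5, 1, 5]),
  ([2, 3, 2], [3, 2, 3]),
  ([2, 4], [4, 2]),
  ([2, 5, 2, 5], [5, 2, 5, 2]),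
  ([3, 4, 3], [4, 3, 4]),
  ([3, 5, 3], [5, 3, 5]),
  ([4, 5], [5, 4]),
  ([1, 2, 3, 1, 2, 3, 1, 2], [3, 2, 1, 3, 2, 1, 3]),
  ([0, 1, 2, 3, 2, 0, 1, 2, 3, 2, 0, 1, 2], [2, 3, 2, 0, 1, 2, 3, 2, 0, 1, 2, 3]),
  ([0, 1, 2, 0, 1, 3, 1, 2, 0, 1, 3, 1, 2], [3, 1, 2, 0, 1, 3, 1, 2, 0, 1, 3, 1]),
  ([1, 3, 1, 3, 4], [4, 3, 1, 3]),
  ([0, 1, 2, 0], [5, 2, 5, 1]),
  ([1, 2, 1, 3, 1, 2, 1, 5, 2], [5, 3, 2, 1, 3, 1, 2, 3])]
def eqs : List (List ℕ × List ℕ) := eqs0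
def lU : List (ℕ × ℕ) := [(0, 14), (16, 162)]
noncomputable def U : ℕ := ivls lU
def l1 : List (ℕ × ℕ) := [(1, 13), (16, 162)]
noncomputable def S1 : ℕ := ivls l1
def w1 : List ℕ := [0]
noncomputable def J : List (List ℕ × ℕ × ℕ) := [(w1, 1, S1)]
def lBig : List (ℕ × ℕ) := [(1, 13), (16, 162)]
noncomputable def J1 : List (List ℕ × ℕ × ℕ) := [([0], 1, S1)]
def ex : List (List ℕ) := [[1, 2, 3, 0, 4]]
def bs' : List ℕ := [0, 1, 2, 3, 4, 5, 6]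
end CfH6.HiA
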